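import Cfsg.Agent.Lib.Helper12.TCG.U35x126.TabT
import Cfsg.Agent.Lib.Helper12.TC.Fn.LowerParts

/-! checks for the lower bound of the order, part 0 (generated, helper12) -/

set_option autoImplicit false
set_option maxRecDepth 100000

namespace Cfsg.Agent.Lib.Helper12.TCG.U35x126

open Cfsg.Agent.Lib.Helper12.TC Cfsg.Agent.Lib.Helper12.TCG

theorem hs7_0 : Fn.slpColK TT 7 [5, 5, 6, 5, 6, 5, 6, 6, 6, 4, 1, 1, 0, 1, 2, 2, 0, 0, 2, 2, 1, 0] 0 126 = true := by decide +kernel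

theorem hs5_0 : Fn.slpColK TT 5 [4, 3, 4, 4, 3, 4, 4, 3, 0, 1, 0, 0, 0, 2, 2, 0, 1, 2, 0, 1] 0 126 = true := by decide +kernel

theorem hs8_0 : Fn.slpColK TT 8 [6, 7, 5, 6, 3, 3, 7, 2, 1, 2, 2, 2, 1, 2, 2, 0, 1, 1, 2] 0 126 = true := by decide +kernel

theorem hs6_0 : Fn.slpColK TT 6 [4, 4, 4, 5, 5, 2, 0, 2, 0, 1, 1, 2, 0, 1, 0, 2, 0] 0 126 = true := by decide +kernel

theorem hs3_0 : Fn.slpColK TT 3 [0, 2, 0, 1, 0, 1, 1, 1, 2, 1, 0, 0] 0 126 = true := by decide +kernel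

theorem hs4_0 : Fn.slpColK TT 4 [1, 0, 1, 1, 2, 0, 2, 1, 1, 2, 0, 2] 0 126 = true := by decide +kernel

/-- a part of a tree -/
def tree0_0 : List (ℕ × ℕ × ℕ) :=
  [(33, 0, 3), (68, 0, 4), (101, 33, 3), (115, 33, 4), (94, 33, 5), (82, 33, 6), (103, 33, 7), (73, 33, 8), (41, 68, 3), (7, 68, 4), (67, 68, 6), (75, 68, 7), (107, 68, 8), (50, 101, 3), (117, 101, 4), (43, 101, 5), (124, 101, 6), (121, 101, 7), (112, 115, 3), (86, 115, 4), (76, 115, 5), (111, 115, 6), (63, 115, 7), (9, 115, 8), (3, 94, 3), (25, 94, 4), (66, 94, 5), (8, 94, 6), (99, 94, 7), (119, 94, 8), (89, 82, 4), (51, 82, 7), (110, 82, 8), (14, 103, 3), (96, 103, 5), (80, 103, 6), (64, 103, 7), (11, 103, 8), (65, 73, 3), (59, 73, 4), (23, 73, 5), (19, 73, 6), (38, 41, 3), (4, 41, 4), (123, 41, 5), (5, 41, 6), (108, 7, 3), (40, 7, 4), (77, 7, 5), (13, 7, 7), (1, 67, 4), (102, 67, 5), (36, 67, 8), (27, 75, 3), (91, 75, 4), (79,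 75, 5), (62, 107, 3), (26, 107, 4), (20, 107, 6), (15, 50, 3), (100, 50, 7), (78, 50, 8), (16, 117, 4), (44, 117, 7), (72, 117, 8), (6, 43, 4), (21, 43, 5), (125, 43, 6), (122, 43, 7), (17, 43, 8), (32, 124, 4), (74, 124, 5), (34, 124, 8), (47, 121, 4), (22, 121, 5), (98, 121, 6), (42, 121, 7), (60, 112, 5), (120, 86, 4), (85, 86, 5), (52, 86, 7), (95, 76, 3), (37, 76, 6), (61, 111, 4), (84, 111, 6), (93, 63, 3), (105, 63, 4), (114, 63, 6), (109, 63, 7), (28, 9, 3), (81, 9, 8), (57, 3, 4), (24, 3, 7), (46, 25, 7), (54, 66, 3), (69, 8, 5), (29, 99, 3), (58, 99, 4), (39, 99, 8), (18, 89, 3), (90, 89, 5), (2, 51, 3), (92, 51, 4), (83, 51, 7), (71, 110, 8), (88, 14, 3), (118, 14, 5), (106, 80, 3), (113, 80, 5), (45, 80, 8), (53, 64, 4), (49, 64, 8), (48, 65, 6), (97, 59, 6), (30, 23, 6), (70, 19, 3), (35, 19, 4), (55, 19, 6), (10, 38, 3), (104, 123, 7), (87, 13, 5), (116, 27, 5), (31, 91, 6),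 (56, 16, 4), (12, 34, 3)]

theorem ht0_0 : Fn.treePartK TT [3, 4, 5, 6, 7, 8] tree0_0 1
    (fun s => Nat.beq s 85070591730234615865843651857942052863) = true := by decide +kernel

/-- a part of a tree -/
def tree1_0 : List (ℕ × ℕ × ℕ) :=
  [(40, 2, 5), (92, 2, 6), (93, 40, 5), (14, 40, 6), (59, 40, 7), (115, 40, 8), (119, 92, 6), (31, 92, 7), (84, 92, 8), (89, 93, 5), (72, 93, 6), (108, 93, 7), (22, 93, 8), (118, 14, 5), (94, 14, 6), (15, 14, 7), (88, 14, 8), (122, 59, 5), (97, 59, 6), (57, 59, 7), (63, 59, 8), (76, 115, 5), (111, 115, 6), (9, 115, 8), (121, 119, 5), (26, 119, 6), (39, 119, 7), (8, 119, 8), (48, 31, 5), (79, 31, 6), (28, 31, 7), (32, 31, 8), (38, 84, 5), (27, 84, 6), (90, 89, 5), (3, 89, 6), (67, 89, 7), (99, 89, 8), (7, 72, 5), (120, 72, 6), (62, 72, 7), (77, 72, 8), (10, 108, 5), (74, 108, 6), (6, 108, 8), (1, 22, 8), (100, 118, 6), (86, 118, 7), (54, 118, 8), (66, 94,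 5), (125, 15, 5), (33, 15, 6), (30, 15, 8), (47, 88, 8), (96, 122, 6), (61, 122, 7), (65, 122, 8), (78, 97, 5), (123, 97, 6), (12, 57, 5), (81, 57, 6), (109, 57, 8), (52, 63, 5), (114, 63, 6), (37, 76, 6), (50, 76, 8), (19, 111, 5), (73, 111, 7), (64, 111, 8), (98, 121, 6), (42, 121, 7), (75, 121, 8), (46, 26, 6), (106, 26, 7), (44, 39, 5), (51, 39, 6), (69, 8, 5), (101, 48, 5), (68, 79, 5), (35, 79, 8), (83, 28, 6), (16, 32, 5), (112, 38, 5), (105, 38, 6), (116, 27, 5), (34, 90, 5), (17, 3, 6), (24, 3, 7), (102, 67, 5), (36, 67, 8), (11, 99, 6), (13, 7, 7), (82, 7, 8), (60, 120, 8), (41, 62, 5), (53, 62, 7), (117, 62, 8), (107, 10, 6), (18, 74, 6), (23, 74, 8), (91, 100, 5), (45, 100, 6), (85, 86, 5), (4, 86, 8), (58, 54, 8), (103, 33, 7), (80, 47, 5), (25, 47, 6), (71, 96, 5), (55, 61, 5), (113, 61, 6), (21, 61, 7), (43, 65, 8), (104, 123, 7), (95, 52, 6), (124, 114, 7), (20, 50, 5), (70,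 19, 8), (49, 64, 8), (56, 98, 8), (110, 106, 5), (29, 69, 5), (87, 105, 7), (5, 13, 7)]

theorem ht1_0 : Fn.treePartK TT [5, 6, 7, 8] tree1_0 4
    (fun s => Nat.beq s 85070591730234615865843651857942052862) = true := by decide +kernel

theorem hgens1 : Fn.gensK TT 9 [0] [5, 6, 7, 8] = true := by decide +kernel

theorem hgens0 : Fn.gensK TT 9 [] [3, 4, 5, 6, 7, 8] = true := by decide +kernel

theorem hgens2 : Fn.gensK TT 9 [2, 0] [7, 8] = true := by decide +kernel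

/-- a part of a tree -/
def tree2_0 : List (ℕ × ℕ × ℕ) :=
  [(93, 1, 7), (106, 1, 8), (108, 93, 7), (22, 93, 8), (90, 106, 8), (6, 108, 8), (26, 90, 8)]

theorem ht2_0 : Fn.treePartK TT [7, 8] tree2_0 2
    (fun s => Nat.beq s 405659333533386976901419189141570) = true := by decide +kernel

end Cfsg.Agent.Lib.Helper12.TCG.U35x126
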