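import Cfsg.Agent.Lib.Helper12.TCG.Parts

/-! certificate data for U35x126: the final table (generated, helper12) -/

set_option autoImplicit false
set_option maxRecDepth 100000

namespace Cfsg.Agent.Lib.Helper12.TCG.U35x126

open Cfsg.Agent.Lib.Helper12.TC Cfsg.Agent.Lib.Helper12.TCG

/-- a part of the final table -/
def fr0 : List ℕ := [2361183241434839384064, 7673845956875656364041, 8854437647961813942282, 570520905813423142469717, 80575410589140656324745, 687104365813031903428839, 58439326144936719417402, 38959524803088662659110, 376313581689726467833930, 145212774537938747785364, 885444067383053385730, 169119788423357390651679, 15937987425042874499088, 629550492513977844629699, 24202129632081866653721, 380445657921370462355688, 23907002819933676503081, 28924496396426496966685, 146393400586562285076629, 595608508117781316632695, 669690601302777106792575, 74082156340941904937086, 698910280436909427654961, 377199024420102009258030, 51060592838499790487639, 365097960378117295964208, 20955503449165248069668, 183877188150740449755448, 180925702449099436982579, 80870530804217442992207, 186238371198661064393020, 105958108022120393998516, 48699437181612670845011, 15052544677077288222746, 72311244052107767054459, 551041143174384612016248, 66703465431672848121922, 12691361154167489953814, 26563313014254181810203, 69359792426531392847990, 113336799582299020591218, 78804530669928514060422, 120715535562749460349133, 682972274399333317607512, 114222279502555292631234,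 72606388966614337847367, 40140117461744995008551, 595313329426276297998413, 38074083673604310958145, 695368471375549359456449, 26268166340527960096813, 55192663898040697880670, 82936602081311348228237, 36893509856176906436671, 39844971315786196975684, 11215620801435724152844, 700976279146233350586492, 45747947046744120885326, 686809177093980626616370, 710125902153138756911394, 59619878904517068062779, 31580829126337549566006, 713372494435914869637337, 64342277317202487017536, 651686578858135835902022, 86773505901856233095254, 136358337030712650104970, 19479799758551371481109, 13576804113239299325966, 27743904054429494542364, 370410625063883179556980, 713667677226397053485265, 111861078123578260455614, 94742518446813173776545, 21545799329892702093349, 23021537430822344196120, 709830753421126603374855, 674117824102592119046391, 106843545422061727907947, 85888063065929570844818, 588820105911627898945555, 65817989504844316016752, 127503932544021334851712, 28629349828253402005553, 43091595616337105256490, 366278557118160910155891, 34237158179481512312866, 6493254072275447054341, 88249245533307830010006, 46928539335964612362320, 722226934968995211641145, 70245203842815708102725, 62571359592381997383742, 295147940363743789057, 48994555144891177893935, 169710087734561280622880, 637519477052173890617376, 686218883113211568062566, 613317388638584354898132, 10330198214113125990418, 360965909531999863832582, 122486422413283602464976, 67884020531012132929603,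 361556184530802532417556, 6198106606902023553035, 21840946249909551497239, 670576080466567763066973, 367459183149194209656940, 724883265271184457990433, 649915695948253627416825, 170005203481222395723957, 62276214290848236437610, 25677870459800506073132, 74377276503243575263305, 538940110376122180436110, 7378698368355676454925, 364507664286283582144552, 365688259443030412492881, 71130652325837726023801, 582031671951580631924820, 691531545336071187333220, 545138184718955844730990, 8559290129810584502287, 664968236755046056853686, 709240427229062471090378, 184172303774256297148614]

/-- the final table -/
def finrecs : List ℕ := fr0

/-- the bitmap of the live labels -/
def LIVE : ℕ := 158856217308392850847476499581053007057407006321192391764689911114298887405426251161175272062567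

/-- the bitmap of the labels of a part -/
def LIVE0 : ℕ := 158856217308392850847476499581053007057407006321192391764689911114298887405426251161175272062567

end Cfsg.Agent.Lib.Helper12.TCG.U35x126
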