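import Cfsg.Agent.Lib.Helper12.TCG.U35x126.Chk0
import Cfsg.Agent.Lib.Helper12.TCG.U35x126.Perm
import Cfsg.Agent.Lib.Helper12.TCG.U35x126.Fin

/-! the index theorem for U35x126 (generated, helper12) -/

set_option autoImplicit false
set_option maxRecDepth 100000
set_option linter.unusedSimpArgs false

namespace Cfsg.Agent.Lib.Helper12.TCG.U35x126

open Cfsg.Agent.Lib.Helper12.TC Cfsg.Agent.Lib.Helper12.TCG Cfsg.Agent.Lib.Helper12.TCG.U35Pres

/-- the chunks of the certificate -/
def chunks : List (ℕ × List ℕ) :=
  [(604, c0)]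

theorem hcover : coverK cD cK chunks = true := by decide +kernel

theorem hchunks : ∀ c ∈ chunks, chunkG cIV F RW cR0 c.2 c.1 = true := by
  unfold chunks
  simp only [List.forall_mem_cons, List.not_mem_nil, false_imp_iff, implies_true, and_true]
  exact chunk0

end Cfsg.Agent.Lib.Helper12.TCG.U35x126
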