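import Cfsg.Agent.Lib.Helper12.TCG.U35x126.Main

/-! the permutation representation for U35x126 (generated, helper12) -/

set_option autoImplicit false
set_option maxRecDepth 100000

namespace Cfsg.Agent.Lib.Helper12.TCG.U35x126

open Cfsg.Agent.Lib.Helper12.TC Cfsg.Agent.Lib.Helper12.TCG Cfsg.Agent.Lib.Helper12.TCG.U35Pres

/-- the subgroup generated by the subgroup words -/
noncomputable def Hs : Subgroup U35Pres.Grp :=
  Subgroup.closure {γ | ∃ w ∈ sw, γ = wprod U35Pres.v w}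

theorem hH : Hs = Subgroup.closure {γ | ∃ w ∈ sw, γ = wprod U35Pres.v w} := rfl

theorem hN0 : 0 < cN := by decide

/-- the permutation representation on the cosets of the subgroup -/
theorem mainRho : ∃ ρ : U35Pres.Grp →* Equiv.Perm (Fin cN),
    (∀ x < 3, ∀ i : Fin cN, ((ρ (U35Pres.v x) i : Fin cN) : ℕ) = TT x i) ∧ Hs.index = cN ∧
    ∃ Φ : U35Pres.Grp ⧸ Hs ≃ Fin cN, ∀ γ : U35Pres.Grp, Φ (γ : U35Pres.Grp ⧸ Hs) = ρ γ ⟨0, hN0⟩ :=
  main_rho U35Pres.v 3 U35Pres.cIV (by decide) U35Pres.hiv U35Pres.hvinv U35Pres.hvge U35Pres.hgen U35Pres.baseL U35Pres.hbase U35Pres.hlet sw Hs hH F RW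
    finrecs TT rotW chunks cD cK cR0 cR cN hdefs hchunks hcover hrelc hperm (fun f => U35Pres.hlift f) hrels hsub
    htrans hfin hlen hN0

/-- the permutation representation -/
noncomputable def rho : U35Pres.Grp →* Equiv.Perm (Fin cN) := mainRho.choose

theorem rho_gen : ∀ x < 3, ∀ i : Fin cN, ((rho (U35Pres.v x) i : Fin cN) : ℕ) = TT x i :=
  mainRho.choose_spec.1

theorem rho_index : Hs.index = cN := mainRho.choose_spec.2.1

theorem rho_equiv : ∃ Φ : U35Pres.Grp ⧸ Hs ≃ Fin cN, ∀ γ : U35Pres.Grp, Φ (γ : U35Pres.Grp ⧸ Hs) = rho γ ⟨0, hN0⟩ :=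
  mainRho.choose_spec.2.2

end Cfsg.Agent.Lib.Helper12.TCG.U35x126
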